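import Groth.Agent.Lib.EtDer.ResZar
import Groth.Agent.Lib.EtLimit.Flasque

/-!
# Zariski cohomology of etale sheaves acyclic on affine etale schemes
-/

set_option autoImplicit false
set_option backward.isDefEq.respectTransparency false
set_option linter.style.haveILetI false

universe u

open CategoryTheory CategoryTheory.Limits CategoryTheory.Abelian AlgebraicGeometry Opposite
open GrothLib.EtDer GrothLib.EtLimit
open GrothLib.EtColim (Z evOne bijective_evOne)

noncomputable section

namespace GrothLib.ZarAff18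

variable {X : Scheme.{u}}

/-- `G` has no cohomology on affine etale schemes. -/
def AffAcyclic (G : EtCoh.Ab X) : Prop :=
  ∀ (T : X.Etale), IsAffine T.left → ∀ q : ℕ,
    Subsingleton (EtCoh.H T.left ((EtCoh.pull T.hom).obj G) (q + 1))

variable {S : ShortComplex (EtCoh.Ab X)}

/-- Sections lift on affine etale schemes. -/
theorem surjective_app (hS : S.ShortExact) (h : AffAcyclic S.X₁) (T : X.Etale) [IsAffine T.left] :
    Function.Surjective (S.g.hom.app (op T)) := by
  intro t
  obtain ⟨a, rfl⟩ := (bijective_sectHom T S.X₃).2 t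
  haveI := GrothLib.EtDer.pullFL T.hom
  have hT := hS.map_of_exact (EtCoh.pull T.hom)
  haveI : Subsingleton (Ext.{u + 1} (Z T.left) (S.map (EtCoh.pull T.hom)).X₁ 1) := h T inferInstance 0
  obtain ⟨b, hb⟩ := Ext.covariant_sequence_exact₃ (Z T.left) hT (Ext.mk₀ a) (zero_add 1) (Subsingleton.elim _ _)
  obtain ⟨b, rfl⟩ := (Ext.mk₀_bijective _ _).2 b
  refine ⟨sectHom T S.X₂ b, ?_⟩
  rw [← sectHom_comp]
  refine congrArg (sectHom T S.X₃) ((Ext.mk₀_bijective _ _).1 ?_)
  rw [← hb, Ext.mk₀_comp_mk₀]
  rfl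

theorem affAcyclic_quotient (hS : S.ShortExact) [Injective S.X₂] (h : AffAcyclic S.X₁) :
    AffAcyclic S.X₃ := by
  intro T hT q
  haveI := GrothLib.EtDer.pullFL T.hom
  have hW := hS.map_of_exact (EtCoh.pull T.hom)
  haveI : Subsingleton (Ext.{u + 1} (Z T.left) (S.map (EtCoh.pull T.hom)).X₁ (q + 1 + 1)) := h T hT (q + 1)
  haveI : Subsingleton (Ext.{u + 1} (Z T.left) (S.map (EtCoh.pull T.hom)).X₂ (q + 1)) :=
    subsingleton_pull_injective T S.X₂ q
  refine subsingleton_of_forall_eq 0 fun x => ?_
  obtain ⟨y, rfl⟩ := Ext.covariant_sequence_exact₃ (Z T.left) hW x rfl (Subsingleton.elim _ _)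
  rw [Subsingleton.elim y 0, Ext.zero_comp]

variable [EtZar.ZarCont X]

theorem shortExact_resZar (hS : S.ShortExact) (h : AffAcyclic S.X₁) :
    (S.map (EtZar.resZar X)).ShortExact := by
  haveI := hS.mono_f
  haveI : Mono (S.map (EtZar.resZar X)).f := (EtZar.resZar X).map_mono S.f
  have he := hS.exact.map_of_mono_of_preservesKernel (EtZar.resZar X) inferInstance inferInstance
  haveI : Epi (S.map (EtZar.resZar X)).g := by
    haveI : Sheaf.IsLocallySurjective ((EtZar.resZar X).map S.g) := ⟨fun {U} s x hx => by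
      obtain ⟨W, hW, hxW, hWU⟩ := exists_isAffineOpen_mem_and_subset (x := x) (U := U) hx
      haveI : IsAffine ((EtZar.zarToEt X).obj W).left := hW
      obtain ⟨t, ht⟩ := surjective_app hS h ((EtZar.zarToEt X).obj W)
        (((EtZar.resZar X).obj S.X₃).obj.map (homOfLE hWU).op s)
      exact ⟨W, homOfLE hWU, ⟨t, ht⟩, hxW⟩⟩
    exact Sheaf.epi_of_isLocallySurjective ((EtZar.resZar X).map S.g)
  exact { exact := he }

/-- No Zariski cohomology in positive degree. -/
theorem subsingleton_H [IsAffine X] :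
    ∀ (n : ℕ) (G : EtCoh.Ab X), AffAcyclic G → Subsingleton (EtZar.H ((EtZar.resZar X).obj G) (n + 1)) := by
  intro n
  induction n with
  | zero =>
    intro G hG
    let S := ShortComplex.mk (Injective.ι G) (cokernel.π (Injective.ι G)) (cokernel.condition _)
    have hS : S.ShortExact := GrothLib.PullH25.injSES_shortExact G
    haveI : Injective S.X₂ := inferInstanceAs (Injective (Injective.under G))
    haveI : Injective (S.map (EtZar.resZar X)).X₂ := GrothLib.EtDer.injective_resZar S.X₂
    have hR := shortExact_resZar hS hG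
    refine subsingleton_of_forall_eq 0 fun x => ?_
    obtain ⟨c, rfl⟩ := Ext.covariant_sequence_exact₁ _ hR x (Ext.eq_zero_of_injective _) rfl
    let hT : Limits.IsTerminal (⊤ : X.Opens) := isTerminalTop
    haveI : IsAffine ((EtZar.zarToEt X).obj ⊤).left := isAffineOpen_top X
    obtain ⟨t, ht⟩ := surjective_app hS hG ((EtZar.zarToEt X).obj ⊤)
      (Sheaf.H.equiv₀ ((EtZar.resZar X).obj S.X₃) hT c)
    let b : EtZar.H ((EtZar.resZar X).obj S.X₂) 0 := (Sheaf.H.equiv₀ ((EtZar.resZar X).obj S.X₂) hT).symm t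
    have hb : Sheaf.H.map ((EtZar.resZar X).map S.g) 0 b = c := by
      refine (Sheaf.H.equiv₀ _ hT).injective ?_
      rw [← Sheaf.H.equiv₀_naturality, AddEquiv.apply_symm_apply]
      exact ht
    rw [← hb, Sheaf.H.map_apply]
    exact (Ext.comp_assoc b (Ext.mk₀ (S.map (EtZar.resZar X)).g) hR.extClass (add_zero 0) (zero_add 1)
      (by omega)).trans ((congrArg (fun k => b.comp k (zero_add 1)) hR.comp_extClass).trans (Ext.comp_zero _ _ _ _ _))
  | succ n ih =>
    intro G hG
    let S := ShortComplex.mk (Injective.ι G) (cokernel.π (Injective.ι G)) (cokernel.condition _)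
    have hS : S.ShortExact := GrothLib.PullH25.injSES_shortExact G
    haveI : Injective S.X₂ := inferInstanceAs (Injective (Injective.under G))
    haveI : Injective (S.map (EtZar.resZar X)).X₂ := GrothLib.EtDer.injective_resZar S.X₂
    have hR := shortExact_resZar hS hG
    refine subsingleton_of_forall_eq 0 fun x => ?_
    obtain ⟨c, rfl⟩ := Ext.covariant_sequence_exact₁ _ hR x (Ext.eq_zero_of_injective _)
      (show n + 1 + 1 = n + 1 + 1 from rfl)
    haveI : Subsingleton (EtZar.H (S.map (EtZar.resZar X)).X₃ (n + 1)) := ih _ (affAcyclic_quotient hS hG)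
    rw [show c = 0 from Subsingleton.elim (α := EtZar.H (S.map (EtZar.resZar X)).X₃ (n + 1)) c 0, Ext.zero_comp]

end GrothLib.ZarAff18
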